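import Cfsg.Agent.H38.K4.Scheme

/-!
# The characters of an association scheme: the formula for the values (helper136)

`main_e` : helper38's `main_rat` with one more conclusion, `χ s g = p s⁻¹ * ∑ x, u s (ty x (g x))`.
-/

set_option autoImplicit false
set_option linter.unusedSectionVars false

namespace Cfsg.Agent.H136.CY.Scheme

open Cfsg Cfsg.Agent.Characters.Core Cfsg.Agent.H443.HN.Scheme Matrix Finset Cfsg.Agent.H187.Scheme
open Cfsg.Agent.H38.K4.Scheme
open scoped ComplexConjugate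

variable {G V : Type*} [Group G] [MulAction G V] {m d : ℕ}

section

variable [Fintype V] [DecidableEq V] {ty : V → V → Fin m} {K : Fin m → Fin m → ℤ} {i0 i1 : Fin m}

/-- **Irreducible characters from an association scheme** (helper38's `main_rat`), with the formula for the values. -/
theorem main_e [Fintype G] (h0 : ∀ x y, ty x y = i0 ↔ x = y) (h1 : ∀ x y, ty x y = i1 ↔ ty y x = i1)
    (hK : ∀ x z j, (((univ.filter fun y => ty x y = j ∧ ty z y = i1).card : ℕ) : ℤ) = K (ty x z) j)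
    (hinv : ∀ (g : G) x y, ty (g • x) (g • y) = ty x y)
    (htr : ∀ x y x' y', ty x y = ty x' y' → ∃ g : G, g • x = x' ∧ g • y = y')
    (L : Fin d → List (ℤ × (Fin m → ℤ))) (θ : Fin d → ℤ) (hL : ∀ s, Ok K (Pi.single i0 1) (L s))
    (hθ : ∀ s i, ∑ j, K i j * last (Pi.single i0 1) (L s) j = θ s * last (Pi.single i0 1) (L s) i)
    (p : Fin d → ℤ) (hp : ∀ s, ((L s).map fun x => θ s - x.1).prod = p s) (hp0 : ∀ s, p s ≠ 0)
    (c : Fin d → ℤ) (D : ℤ) (hc : ∀ s, c s * p s = D)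
    (hsum : ∀ i, ∑ s, c s * last (Pi.single i0 1) (L s) i = if i = i0 then D else 0)
    (hD : D ≠ 0)
    (n : Fin d → ℕ) (hn : ∀ s, (Nat.card V : ℤ) * last (Pi.single i0 1) (L s) i0 = n s * p s)
    (hn0 : ∀ s, n s ≠ 0) :
    ∃ (χ : Fin d → G → ℂ) (N : Fin d → Fin d → ℕ), (∀ s, IsCharacter G (χ s)) ∧ (∀ s, χ s 1 = n s) ∧
      (∀ g : G, ∑ s, χ s g = Nat.card (MulAction.fixedBy V g)) ∧ (∀ s g, ∃ q : ℚ, χ s g = q) ∧
      (∀ s t, classInner (χ s) (χ t) = N s t) ∧ (∀ s, 0 < N s s) ∧ ∑ s, ∑ t, N s t ≤ m ∧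
      ∀ s (g : G), χ s g = ((p s : ℤ) : ℂ)⁻¹ * ∑ x, ((last (Pi.single i0 1) (L s) (ty x (g • x)) : ℤ) : ℂ) := by
  -- the projections
  let E : Fin d → V → V → ℂ := fun s x y => ((p s : ℤ) : ℂ)⁻¹ * M ty (last (Pi.single i0 1) (L s)) x y
  have hpC : ∀ s, ((p s : ℤ) : ℂ) ≠ 0 := fun s => by exact_mod_cast hp0 s
  have hEE : ∀ s a c, ∑ b, E s a b * E s b c = E s a c := by
    intro s a c
    have h2 := congrFun (congrFun (idem h0 h1 hK (L s) (hL s) (hθ s)) a) c
    rw [Matrix.mul_apply, hp s, Matrix.smul_apply, smul_eq_mul] at h2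
    show ∑ b, (((p s : ℤ) : ℂ)⁻¹ * _) * (((p s : ℤ) : ℂ)⁻¹ * _) = ((p s : ℤ) : ℂ)⁻¹ * _
    have h3 : ∀ b, (((p s : ℤ) : ℂ)⁻¹ * M ty (last (Pi.single i0 1) (L s)) a b) *
        (((p s : ℤ) : ℂ)⁻¹ * M ty (last (Pi.single i0 1) (L s)) b c) = ((p s : ℤ) : ℂ)⁻¹ * ((p s : ℤ) : ℂ)⁻¹ *
        (M ty (last (Pi.single i0 1) (L s)) a b * M ty (last (Pi.single i0 1) (L s)) b c) := by
      intro b; ring
    rw [Finset.sum_congr rfl fun b _ => h3 b, ← Finset.mul_sum, h2]
    have h4 := hpC s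
    field_simp
  have hE : ∀ s (g : G) a b, E s (g • a) (g • b) = E s a b := by
    intro s g a b
    show ((p s : ℤ) : ℂ)⁻¹ * M ty _ _ _ = ((p s : ℤ) : ℂ)⁻¹ * M ty _ _ _
    rw [M_apply, M_apply, hinv]
  let χ : Fin d → G → ℂ := fun s g => ∑ x, E s x (g • x)
  have hχ : ∀ s, IsCharacter G (χ s) := fun s =>
    Cfsg.Agent.H651.isCharacter_sum_perm (MulAction.toPermHom G V) (E s) (hEE s) (hE s)
  have hq : ∀ s g, ∃ q : ℚ, χ s g = q := by
    intro s g
    refine ⟨∑ x : V, ((p s : ℤ) : ℚ)⁻¹ * ((last (Pi.single i0 1) (L s) (ty x (g • x)) : ℤ) : ℚ), ?_⟩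
    show ∑ x, E s x (g • x) = _
    rw [Rat.cast_sum]
    refine Finset.sum_congr rfl fun x _ => ?_
    show ((p s : ℤ) : ℂ)⁻¹ * M ty _ _ _ = _
    rw [M_apply]
    push_cast
    rfl
  have hχ1 : ∀ s, χ s 1 = n s := by
    intro s
    have h2 : ∀ x, E s x ((1 : G) • x) = ((p s : ℤ) : ℂ)⁻¹ * ((last (Pi.single i0 1) (L s) i0 : ℤ) : ℂ) := by
      intro x
      show ((p s : ℤ) : ℂ)⁻¹ * M ty _ _ _ = _
      rw [one_smul, M_apply, (h0 x x).2 rfl]
    show ∑ x, E s x ((1 : G) • x) = _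
    rw [Finset.sum_congr rfl fun x _ => h2 x, Finset.sum_const, Finset.card_univ, ← Nat.card_eq_fintype_card,
      nsmul_eq_mul]
    have h3 : ((Nat.card V : ℤ) : ℂ) * ((last (Pi.single i0 1) (L s) i0 : ℤ) : ℂ) = (n s : ℂ) * ((p s : ℤ) : ℂ) := by
      exact_mod_cast congrArg (Int.cast : ℤ → ℂ) (hn s)
    have h4 := hpC s
    push_cast at h3
    field_simp
    rw [h3, mul_comm]
  have hDC : (D : ℂ) ≠ 0 := by exact_mod_cast hD
  have hsumχ : ∀ g : G, ∑ s, χ s g = Nat.card (MulAction.fixedBy V g) := by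
    intro g
    show ∑ s, ∑ x, E s x (g • x) = _
    rw [Finset.sum_comm]
    have h2 : ∀ x : V, ∑ s, E s x (g • x) = if g • x = x then 1 else 0 := by
      intro x
      have h3 := congrArg (Int.cast : ℤ → ℂ) (hsum (ty x (g • x)))
      apply mul_left_cancel₀ hDC
      rw [Finset.mul_sum]
      have h4 : ∀ s, (D : ℂ) * E s x (g • x) = ((c s * last (Pi.single i0 1) (L s) (ty x (g • x)) : ℤ) : ℂ) := by
        intro s
        have h5 := congrArg (Int.cast : ℤ → ℂ) (hc s)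
        have h6 := hpC s
        show (D : ℂ) * (((p s : ℤ) : ℂ)⁻¹ * M ty _ _ _) = _
        rw [M_apply]
        push_cast at h5 ⊢
        rw [← h5]
        field_simp
      rw [Finset.sum_congr rfl fun s _ => h4 s, ← Int.cast_sum]
      rw [h3]
      by_cases hx : g • x = x
      · rw [if_pos hx, if_pos ((h0 _ _).2 hx.symm), mul_one]
      · rw [if_neg hx, if_neg fun h => hx ((h0 _ _).1 h).symm, mul_zero, Int.cast_zero]
    rw [Finset.sum_congr rfl fun x _ => h2 x, Finset.sum_boole, Nat.card_eq_fintype_card]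
    congr 1
    exact (Fintype.card_subtype _).symm
  have hN : ∀ s t, ∃ k : ℕ, classInner (χ s) (χ t) = k := fun s t => classInner_isNat (hχ s) (hχ t)
  choose N hN using hN
  refine ⟨χ, N, hχ, hχ1, hsumχ, hq, hN, fun s => ?_, ?_, fun s g => ?_⟩
  · rw [Nat.pos_iff_ne_zero]
    intro h
    have h3 := classInner_self_eq_zero (φ := χ s) (by rw [hN, h]; simp)
    have h4 := hχ1 s
    rw [h3] at h4
    have h5 : (n s : ℂ) = 0 := by rw [← h4]; rfl
    exact hn0 s (by exact_mod_cast h5)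
  · have hππ : classInner (fun g : G => (Nat.card (MulAction.fixedBy V g) : ℂ))
        (fun g : G => (Nat.card (MulAction.fixedBy V g) : ℂ)) =
        (Nat.card (Quotient (MulAction.orbitRel G (V × V))) : ℂ) := by
      rw [← Cfsg.Agent.S0157.avg_fixedBy (G := G) (V × V)]
      simp only [classInner, Cfsg.Agent.S0157.card_fixedBy_prod, Nat.cast_mul, Complex.conj_natCast]
    have hπ : (fun g : G => (Nat.card (MulAction.fixedBy V g) : ℂ)) = ∑ s, χ s := by
      funext g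
      rw [← hsumχ g, Finset.sum_apply]
    rw [hπ, classInner_sum_left] at hππ
    have h5 : ∀ s, classInner (χ s) (∑ t, χ t) = ((∑ t, N s t : ℕ) : ℂ) := by
      intro s
      rw [classInner_sum_right]
      push_cast
      exact Finset.sum_congr rfl fun t _ => hN s t
    rw [Finset.sum_congr rfl fun s _ => h5 s, ← Nat.cast_sum] at hππ
    have h6 : ∑ s, ∑ t, N s t = Nat.card (Quotient (MulAction.orbitRel G (V × V))) := by exact_mod_cast hππ
    rw [h6]
    exact card_orbits_le ty htr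
  · show ∑ x, E s x (g • x) = _
    rw [Finset.mul_sum]
    rfl

end

end Cfsg.Agent.H136.CY.Scheme
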