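import Cfsg.Agent.H136.CY.Tools
import Cfsg.Agent.H136.CY.Scheme
import Cfsg.Agent.H68.RatB.HN

/-!
# S4829: the rows `(HN, 3)`, `(HN, 5)` (helper136)

The rational characters of degrees 653125 (`p = 3`) and 16929 (`p = 5`) of helper443's scheme on the 1539000 cosets of
`2.HS.2`: the spherical function is congruent to the trivial one modulo `p` for every colour, so they lie in the
principal block.
-/

set_option autoImplicit false
set_option maxRecDepth 100000

namespace Cfsg.Agent.H136.CY.HN

open Cfsg Cfsg.Agent.Characters.Core Cfsg.Agent.H493.RatB Cfsg.Agent.H145.BR Cfsg.Agent.Characters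
open Cfsg.Agent.H443.HN.Frame Cfsg.Agent.H443.HN.Scheme Cfsg.Agent.H187.Scheme.HN Cfsg.Agent.HN Cfsg.Agent.HN.DCover
open Cfsg.Agent.HN.Distinct Cfsg.Agent.H629.CY Cfsg.Agent.H136.CY

universe u

/-- the sizes of the colour classes -/
def sz : Fin 9 → ℕ := ![1, 1408, 2200, 35200, 123200, 354816, 739200, 5775, 277200]

theorem card_col (x0 : V) (i : Fin 9) : (Finset.univ.filter fun z => ty x0 z = i).card = sz i := by
  classical
  have h00 : (Finset.univ.filter fun z => ty x0 z = 0).card = 1 := by
    rw [Finset.card_eq_one]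
    refine ⟨x0, Finset.ext fun z => ?_⟩
    rw [Finset.mem_filter, Finset.mem_singleton]
    constructor
    · rintro ⟨-, h⟩
      exact ((ty_zero _ _).1 h).symm
    · rintro rfl
      exact ⟨Finset.mem_univ _, (ty_zero _ _).2 rfl⟩
  have hb := fun i j => card_balance (ty := ty) (K := H443.HN.Frame.K) (i1 := 1) ty_one count x0 i j
  have b1 := hb 0 1
  have b2 := hb 1 2
  have b3 := hb 1 3
  have b4 := hb 1 4
  have b5 := hb 1 5
  have b6 := hb 2 6
  have b7 := hb 6 7
  have b8 := hb 6 8
  simp only [H443.HN.Row.K_eq] at b1 b2 b3 b4 b5 b6 b7 b8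
  rw [h00] at b1
  simp at b1 b2 b3 b4 b5 b6 b7 b8
  have g1 : (Finset.univ.filter fun z => ty x0 z = 1).card = 1408 := by omega
  have g2 : (Finset.univ.filter fun z => ty x0 z = 2).card = 2200 := by omega
  have g3 : (Finset.univ.filter fun z => ty x0 z = 3).card = 35200 := by omega
  have g4 : (Finset.univ.filter fun z => ty x0 z = 4).card = 123200 := by omega
  have g5 : (Finset.univ.filter fun z => ty x0 z = 5).card = 354816 := by omega
  have g6 : (Finset.univ.filter fun z => ty x0 z = 6).card = 739200 := by omega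
  have g7 : (Finset.univ.filter fun z => ty x0 z = 7).card = 5775 := by omega
  have g8 : (Finset.univ.filter fun z => ty x0 z = 8).card = 277200 := by omega
  fin_cases i
  · exact h00
  · exact g1
  · exact g2
  · exact g3
  · exact g4
  · exact g5
  · exact g6
  · exact g7
  · exact g8

theorem main (s : Fin 8) (hs : s ≠ 1) {p : ℕ} [hp : Fact p.Prime] (q : Fin 9 → ℤ)
    (hq : ∀ i, (sz i : ℤ) * (last (Pi.single 0 1) (L s) 0 - last (Pi.single 0 1) (L s) i) =
      p * q i * last (Pi.single 0 1) (L s) 0) (hodd : Odd (nn s)) (hpn : ¬ p ∣ nn s) (hn1 : nn s ≠ 1) :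
    WitOR p Cfsg.Spor.HN := by
  have : Finite G := Nat.finite_of_card_ne_zero (by rw [H38.K4.HN.card_G]; norm_num)
  have := Fintype.ofFinite G
  obtain ⟨χ, N, h1, h2, -, h4, h5, h6, h7, h8⟩ := Scheme.main_e (G := G) (ty := ty) (K := H443.HN.Frame.K) (i0 := 0)
    (i1 := 1) ty_zero ty_one count ty_smul ty_trans L th ok eig pp prod_eq pp_ne cc DD cp sum_eq DD_ne nn (fun s => by
      rw [Nat.card_eq_fintype_card, Cfsg.Agent.H443.HN.Row.card_V]
      exact nn_eq s) nn_ne
  have hne : N 1 1 ≠ 1 := by
    intro h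
    have h8 := Blocks.Knorr.charDegree_dvd (isIrr_of_classInner_self (h1 1) (by rw [h5, h, Nat.cast_one]))
    rw [H38.K4.charDegree_eq (h2 1), H38.K4.HN.card_G] at h8
    revert h8
    show ¬ (12749 ∣ 273030912000000)
    norm_num
  have hN : N s s = 1 := by
    have e1 : ∑ s, N s s ≤ 9 := by
      refine le_trans (Finset.sum_le_sum fun s _ => ?_) h7
      exact Finset.single_le_sum (f := fun t => N s t) (fun _ _ => Nat.zero_le _) (Finset.mem_univ s)
    rw [Fin.sum_univ_eight] at e1
    have e0 := h6 0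
    have e2 := h6 1
    have e3 := h6 2
    have e4 := h6 3
    have e5 := h6 4
    have e6 := h6 5
    have e7 := h6 6
    have e8 := h6 7
    fin_cases s
    · show N 0 0 = 1
      omega
    · exact absurd rfl hs
    · show N 2 2 = 1
      omega
    · show N 3 3 = 1
      omega
    · show N 4 4 = 1
      omega
    · show N 5 5 = 1
      omega
    · show N 6 6 = 1
      omega
    · show N 7 7 = 1
      omega
  have hirr : IsIrrCharacter G (χ s) := isIrr_of_classInner_self (h1 s) (by rw [h5, hN, Nat.cast_one])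
  have hdeg : charDegree (χ s) = nn s := H38.K4.charDegree_eq (h2 s)
  intro M hM
  refine ⟨⟨χ s, hirr⟩, ?_, ?_, ?_, ?_, ?_⟩
  · refine mem_of_ty ty ty_zero ty_smul ty_trans hM ⟨χ s, hirr⟩ ((pp s : ℤ) : ℂ)⁻¹ (last (Pi.single 0 1) (L s))
      (fun g => h8 s g) ((1 : G) : V) q fun i => ?_
    rw [card_col]
    exact hq i
  · intro h
    apply hn1
    have h9 : χ s 1 = 1 := congrFun h 1
    rw [h2] at h9
    exact_mod_cast h9
  · show ¬ p ∣ charDegree (χ s)
    rwa [hdeg]
  · show Odd (charDegree (χ s))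
    rwa [hdeg]
  · exact fun g => h4 s g

theorem model_three : WitOR 3 Cfsg.Spor.HN := by
  have : Fact (Nat.Prime 3) := ⟨by norm_num⟩
  exact main 4 (by decide) ![0, 464, 732, 11752, 41112, 118368, 246232, 1940, 92400] (by decide +kernel) (by decide)
    (by decide) (by decide)

theorem model_five : WitOR 5 Cfsg.Spor.HN := by
  have : Fact (Nat.Prime 5) := ⟨by norm_num⟩
  exact main 2 (by decide) ![0, 256, 400, 7040, 24320, 71424, 147840, 1080, 55440] (by decide +kernel) (by decide)
    (by decide) (by decide)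

end Cfsg.Agent.H136.CY.HN

namespace Cfsg.Agent.H136.CY

open Cfsg Cfsg.Agent.H629.CY

universe u

/-- **`(HN, 3)`** -/
theorem witOR_hn_three {S : Type u} [Group S] (h : Spor.IsoHN S) : WitOR 3 S := by
  obtain ⟨e⟩ := h
  have : Finite S := Nat.finite_of_card_ne_zero (by
    rw [Nat.card_congr e.toEquiv, Cfsg.Agent.H38.K4.HN.card_G]; norm_num)
  exact witOR_congr e HN.model_three

/-- **`(HN, 5)`** -/
theorem witOR_hn_five {S : Type u} [Group S] (h : Spor.IsoHN S) : WitOR 5 S := by
  obtain ⟨e⟩ := h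
  have : Finite S := Nat.finite_of_card_ne_zero (by
    rw [Nat.card_congr e.toEquiv, Cfsg.Agent.H38.K4.HN.card_G]; norm_num)
  exact witOR_congr e HN.model_five

end Cfsg.Agent.H136.CY
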